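import Cfsg.Agent.H152.QA.PSit
import Cfsg.Agent.H306.QA.Chain
import Cfsg.Agent.H724.QA.TOne

/-!
# S4979, layer (A), task A-T8: generation by conjugates of a `p`-subgroup, integral forms (helper987)

* `PSit.card_le_of_le` : `X ≤ T`, `C_V(T) = C_V(X)`: `|V| ≤ |G : N_G(T)| |C_V(X)|`;
* `PSit.gen'` : `m` conjugates of `X` generate: `|V| = q ^ d`, `q ^ c ≤ |S : N_S(X)|`, `d ≤ m c`;
* `PSit.two_gen'`, `PSit.chain'`.
-/

set_option autoImplicit false
set_option linter.unusedSectionVars false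

open Cfsg

namespace Cfsg.Agent.H987.QA

open Cfsg.Agent.H80.Fpf Cfsg.Agent.H152.QA
open scoped Pointwise

section P

variable {p q : ℕ} {G V S : Type} [Group G] [Finite G] [AddCommGroup V] [Finite V] [DistribMulAction G V]
  [Group S] [Finite S] [IsSimpleGroup S] {ψ : G →* S}

/-- every vector is moved into the fixed space of the `p`-subgroup `X` -/
theorem PSit.exists_smul_mem (h : PSit p q G V) (X : Subgroup G) (hX : IsPGroup p X) (v : V) :
    ∃ g : G, g • v ∈ fixV G V X := by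
  have hp : Fact p.Prime := ⟨h.hp⟩
  have h1 : ¬ p ∣ Nat.card (MulAction.orbit G v) := by
    rw [Nat.card_congr (MulAction.orbitEquivQuotientStabilizer G v)]
    exact h.P1 v
  obtain ⟨w, hw⟩ := hX.nonempty_fixed_point_of_prime_not_dvd_card (MulAction.orbit G v) h1
  obtain ⟨g, hg⟩ := w.2
  refine ⟨g, ?_⟩
  rw [mem_fixV]
  intro x hx
  have h2 := congrArg Subtype.val (MulAction.mem_fixedPoints.1 hw ⟨x, hx⟩)
  have h3 : x • (w : V) = (w : V) := h2
  rw [← hg] at h3
  exact h3

/-- a subgroup `T` with the same fixed points as the `p`-subgroup `X ≤ T` -/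
theorem PSit.card_le_of_le (h : PSit p q G V) (X T : Subgroup G) (hX : IsPGroup p X) (_hXT : X ≤ T)
    (hfix : fixV G V T = fixV G V X) :
    Nat.card V ≤ (Subgroup.normalizer (T : Set G)).index * Nat.card (fixV G V X) := by
  classical
  have key : ∀ v : V, ∃ g : G, g • v ∈ fixV G V T := fun v => by
    rw [hfix]
    exact PSit.exists_smul_mem h X hX v
  rw [← hfix]
  let f : (G ⧸ Subgroup.normalizer (T : Set G)) × (fixV G V T) → V := fun y => y.1.out • (y.2 : V)
  have hf : Function.Surjective f := by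
    intro v
    obtain ⟨g, hg⟩ := key v
    set c : G ⧸ Subgroup.normalizer (T : Set G) := QuotientGroup.mk g⁻¹ with hc
    have h1 : c.out⁻¹ * g⁻¹ ∈ Subgroup.normalizer (T : Set G) := by
      rw [← QuotientGroup.eq, QuotientGroup.out_eq']
    refine ⟨(c, ⟨(c.out⁻¹ * g⁻¹) • (g • v), Cfsg.Agent.H724.QA.smul_mem_fixV h1 hg⟩), ?_⟩
    change c.out • ((c.out⁻¹ * g⁻¹) • (g • v)) = v
    rw [smul_smul, smul_smul]
    have h2 : c.out * (c.out⁻¹ * g⁻¹) * g = 1 := by group
    rw [h2, one_smul]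
  have h1 := Nat.card_le_card_of_surjective f hf
  rw [Nat.card_prod] at h1
  exact h1

/-- every vector is fixed by a conjugate of the `p`-subgroup `X` -/
theorem PSit.card_le (h : PSit p q G V) (X : Subgroup G) (hX : IsPGroup p X) :
    Nat.card V ≤ (Subgroup.normalizer (X : Set G)).index * Nat.card (fixV G V X) :=
  PSit.card_le_of_le h X X hX le_rfl rfl

theorem PSit.not_dvd_ker (h : PSit p q G V) (hψ : IsCover ψ) : ¬ p ∣ Nat.card ψ.ker :=
  fun h1 => h.pZ (h1.trans (Subgroup.card_dvd_of_le hψ.central))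

/-- the index of the normalizer is that of the image in `S` -/
theorem PSit.index_normalizer (h : PSit p q G V) (hψ : IsCover ψ) (X : Subgroup G) (hX : IsPGroup p X) :
    (Subgroup.normalizer (X : Set G)).index = (Subgroup.normalizer ((X.map ψ : Subgroup S) : Set S)).index := by
  classical
  have hk := PSit.not_dvd_ker h hψ
  rw [← Subgroup.index_comap_of_surjective _ hψ.surj]
  congr 1
  have key : ∀ g ∈ (Subgroup.normalizer ((X.map ψ : Subgroup S) : Set S)).comap ψ, ∀ x ∈ X, g * x * g⁻¹ ∈ X := by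
    intro g hg x hx
    rw [Subgroup.mem_comap] at hg
    have h1 : ψ x ∈ X.map ψ := Subgroup.mem_map_of_mem ψ hx
    have h2 := (Subgroup.mem_normalizer_iff.1 hg (ψ x)).1 h1
    obtain ⟨x', hx', hxx⟩ := h2
    have hz : x'⁻¹ * (g * x * g⁻¹) ∈ ψ.ker := by
      rw [MonoidHom.mem_ker, map_mul, map_inv, hxx, map_mul, map_mul, map_inv, inv_mul_cancel]
    set z := x'⁻¹ * (g * x * g⁻¹) with hzdef
    have hzc := Subgroup.mem_center_iff.1 (hψ.central hz)
    obtain ⟨a, ha⟩ := hX ⟨x, hx⟩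
    obtain ⟨b, hb⟩ := hX ⟨x', hx'⟩
    have ha' : x ^ p ^ a = 1 := congrArg Subtype.val ha
    have hb' : x' ^ p ^ b = 1 := congrArg Subtype.val hb
    have h3 : x' * z = g * x * g⁻¹ := by rw [hzdef, mul_inv_cancel_left]
    have h4 : (x' * z) ^ p ^ (a + b) = 1 := by
      rw [h3, conj_pow, pow_add, pow_mul, ha', one_pow, mul_one, mul_inv_cancel]
    have h5 : z ^ p ^ (a + b) = 1 := by
      rw [(show Commute x' z from hzc x').mul_pow, add_comm, pow_add, pow_mul, hb', one_pow, one_mul, ← pow_add] at h4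
      rw [add_comm]; exact h4
    have h6 := Cfsg.Agent.H724.QA.eq_one_of_ker h.hp hk hz h5
    rw [h6, mul_one] at h3
    rw [← h3]; exact hx'
  ext g
  constructor
  · intro hg
    rw [Subgroup.mem_comap, Subgroup.mem_normalizer_iff]
    intro s
    constructor
    · rintro ⟨x, hx, rfl⟩
      exact ⟨g * x * g⁻¹, (Subgroup.mem_normalizer_iff.1 hg x).1 hx, by simp⟩
    · rintro ⟨x, hx, hxs⟩
      refine ⟨g⁻¹ * x * g, ?_, ?_⟩
      · have h2 := (Subgroup.mem_normalizer_iff.1 (inv_mem hg) x).1 hx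
        rwa [inv_inv] at h2
      · rw [map_mul, map_mul, map_inv, hxs]; group
  · intro hg
    rw [Subgroup.mem_normalizer_iff]
    intro x
    refine ⟨fun hx => key g hg x hx, fun hx => ?_⟩
    have h2 := key g⁻¹ (inv_mem hg) _ hx
    have h3 : g⁻¹ * (g * x * g⁻¹) * g⁻¹⁻¹ = x := by group
    rwa [h3] at h2

/-- `p`-subgroups of `S` lift -/
theorem PSit.exists_lift (h : PSit p q G V) (hψ : IsCover ψ) (Y : Subgroup S) (hY : IsPGroup p Y) :
    ∃ X : Subgroup G, IsPGroup p X ∧ X.map ψ = Y ∧ Nat.card X = Nat.card Y := by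
  classical
  have hp : Fact p.Prime := ⟨h.hp⟩
  have hk := PSit.not_dvd_ker h hψ
  let f : ↥(Y.comap ψ) →* ↥Y := ψ.subgroupComap Y
  have hf : Function.Surjective f := ψ.subgroupComap_surjective_of_surjective Y hψ.surj
  obtain ⟨P⟩ : Nonempty (Sylow p ↥(Y.comap ψ)) := inferInstance
  let Q := P.mapSurjective hf
  have hQ : (Q : Subgroup ↥Y) = ⊤ := by
    have h1 : IsPGroup p (⊤ : Subgroup ↥Y) := hY.of_equiv Subgroup.topEquiv.symm
    exact (Q.3 h1 le_top).symm
  have hX : IsPGroup p ((P : Subgroup ↥(Y.comap ψ)).map (Y.comap ψ).subtype) := P.2.map _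
  have hmap : ((P : Subgroup ↥(Y.comap ψ)).map (Y.comap ψ).subtype).map ψ = Y := by
    have h1 : ((P : Subgroup ↥(Y.comap ψ)).map f).map Y.subtype = Y := by
      have h2 : (Q : Subgroup ↥Y) = (P : Subgroup ↥(Y.comap ψ)).map f := rfl
      rw [← h2, hQ, ← MonoidHom.range_eq_map, Subgroup.range_subtype]
    rw [Subgroup.map_map] at h1 ⊢
    exact h1
  refine ⟨_, hX, hmap, ?_⟩
  set X := (P : Subgroup ↥(Y.comap ψ)).map (Y.comap ψ).subtype with hXdef
  have hinj : Function.Injective (ψ.comp X.subtype) := by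
    rw [injective_iff_map_eq_one]
    intro x hx
    obtain ⟨a, ha⟩ := hX x
    exact Subtype.ext (Cfsg.Agent.H724.QA.eq_one_of_ker h.hp hk (z := (x : G)) hx (congrArg Subtype.val ha))
  have hr : (ψ.comp X.subtype).range = Y := by
    rw [MonoidHom.range_comp, Subgroup.range_subtype, hmap]
  rw [← hr]
  exact Nat.card_congr (MonoidHom.ofInjective hinj).toEquiv

/-- no fixed points of `G` -/
theorem PSit.fixV_top (h : PSit p q G V) (hψ : IsCover ψ) : fixV G V ⊤ = ⊥ := by
  rcases h.irr (fixV G V ⊤) (fun g w hw => by rw [hw g trivial]; exact hw) with h1 | h1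
  · exact h1
  · exfalso
    have h2 : ∀ g : G, g = 1 := fun g => h.faith g fun v => by
      have h3 : v ∈ fixV G V ⊤ := by rw [h1]; trivial
      exact h3 g trivial
    have h3 : Nat.card G = 1 := by
      rw [Nat.card_eq_one_iff_unique]
      exact ⟨⟨fun a b => by rw [h2 a, h2 b]⟩, ⟨1⟩⟩
    have h4 := h.pG
    rw [h3] at h4
    exact h.hp.one_lt.ne' (Nat.dvd_one.1 h4)

theorem fixV_conj (X : Subgroup G) (g : G) :
    Nat.card (fixV G V (X.map (MulAut.conj g).toMonoidHom)) = Nat.card (fixV G V X) := by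
  have a1 : ∀ v : fixV G V X, g • (v : V) ∈ fixV G V (X.map (MulAut.conj g).toMonoidHom) := by
    rintro v _ ⟨x, hx, rfl⟩
    have h3 := v.2 _ hx
    change (g * x * g⁻¹) • g • (v : V) = g • (v : V)
    rw [smul_smul, inv_mul_cancel_right, mul_smul, h3]
  have a2 : ∀ v : fixV G V (X.map (MulAut.conj g).toMonoidHom), g⁻¹ • (v : V) ∈ fixV G V X := by
    intro v x hx
    have h3 := v.2 _ (Subgroup.mem_map_of_mem (MulAut.conj g).toMonoidHom hx)
    change (g * x * g⁻¹) • (v : V) = (v : V) at h3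
    rw [mul_smul, mul_smul] at h3
    rw [eq_inv_smul_iff]
    exact h3
  exact (Nat.card_congr
    { toFun := fun v : fixV G V X => (⟨g • (v : V), a1 v⟩ : fixV G V (X.map (MulAut.conj g).toMonoidHom))
      invFun := fun v => ⟨g⁻¹ • (v : V), a2 v⟩
      left_inv := fun v => Subtype.ext (inv_smul_smul g (v : V))
      right_inv := fun v => Subtype.ext (smul_inv_smul g (v : V)) }).symm

/-- subgroups of `V` have order a power of `q` -/
theorem PSit.card_pow (h : PSit p q G V) (W : AddSubgroup V) : ∃ f : ℕ, Nat.card W = q ^ f := by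
  have hq : Fact q.Prime := ⟨h.hq⟩
  have h1 : IsPGroup q (Multiplicative W) := fun x => ⟨1, by
    rw [pow_one]
    have h2 : q • (x.toAdd : V) = 0 := h.exp _
    have h3 : q • x.toAdd = 0 := Subtype.ext h2
    exact congrArg Multiplicative.ofAdd h3⟩
  obtain ⟨f, hf⟩ := IsPGroup.iff_card.1 h1
  exact ⟨f, hf⟩

/-- `m` conjugates of the `p`-subgroup `X` generate `S`: `|V| = q ^ d`, `q ^ c ≤ |S : N_S(X)|`, `d ≤ m c` -/
theorem PSit.gen' (h : PSit p q G V) (hψ : IsCover ψ) (X : Subgroup S) (hX : IsPGroup p X) {m : ℕ} (g : Fin m → S)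
    (hg : ⨆ i, X.map (MulAut.conj (g i)).toMonoidHom = ⊤) :
    ∃ c d : ℕ, Nat.card V = q ^ d ∧ q ^ c ≤ (Subgroup.normalizer (X : Set S)).index ∧ d ≤ m * c := by
  classical
  obtain ⟨Y, hY, hYX, -⟩ := PSit.exists_lift h hψ X hX
  obtain ⟨f, hf⟩ := PSit.card_pow h (fixV G V Y)
  obtain ⟨d, hd⟩ := PSit.card_pow h (⊤ : AddSubgroup V)
  have hd' : Nat.card V = q ^ d := by
    rw [← hd]
    exact (Nat.card_congr AddSubgroup.topEquiv.toEquiv).symm
  have hq1 := h.hq.one_lt
  have hfd : f ≤ d := by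
    have h1 : Nat.card (fixV G V Y) ∣ Nat.card V := AddSubgroup.card_addSubgroup_dvd_card _
    rw [hf, hd'] at h1
    exact (Nat.pow_dvd_pow_iff_le_right hq1).1 h1
  have hidx : (fixV G V Y).index = q ^ (d - f) := by
    have h1 := (fixV G V Y).index_mul_card
    rw [hf, hd'] at h1
    have h2 : q ^ (d - f) * q ^ f = q ^ d := by rw [← pow_add, Nat.sub_add_cancel hfd]
    exact Nat.eq_of_mul_eq_mul_right (pow_pos h.hq.pos f) (h1.trans h2.symm)
  refine ⟨d - f, d, hd', ?_, ?_⟩
  · have h1 := PSit.card_le h Y hY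
    rw [PSit.index_normalizer h hψ Y hY, hYX, hf, hd'] at h1
    have h2 : q ^ (d - f) * q ^ f = q ^ d := by rw [← pow_add, Nat.sub_add_cancel hfd]
    rw [← h2] at h1
    exact Nat.le_of_mul_le_mul_right h1 (pow_pos h.hq.pos f)
  · choose k hk using fun i => hψ.surj (g i)
    have h1 : (⨆ i, Y.map (MulAut.conj (k i)).toMonoidHom) = ⊤ := by
      apply Cfsg.Agent.H306.QA.eq_top_of_map hψ
      rw [Subgroup.map_iSup, ← hg]
      congr 1
      funext i
      rw [Subgroup.map_map, ← hYX, Subgroup.map_map]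
      congr 1
      ext x
      show ψ (k i * x * (k i)⁻¹) = g i * ψ x * (g i)⁻¹
      rw [map_mul, map_mul, map_inv, hk]
    have h2 : (⨅ i, fixV G V (Y.map (MulAut.conj (k i)).toMonoidHom)) ≤ ⊥ := by
      rw [← PSit.fixV_top h hψ, ← h1]
      intro v hv
      have h3 : (⨆ i, Y.map (MulAut.conj (k i)).toMonoidHom) ≤ MulAction.stabilizer G v :=
        iSup_le fun i x hx => ((AddSubgroup.mem_iInf.1 hv) i) x hx
      exact fun x hx => h3 hx
    have h3 := AddSubgroup.index_iInf_le (fun i => fixV G V (Y.map (MulAut.conj (k i)).toMonoidHom))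
    rw [le_bot_iff.1 h2, AddSubgroup.index_bot] at h3
    have h4 : ∀ i, (fixV G V (Y.map (MulAut.conj (k i)).toMonoidHom)).index = q ^ (d - f) := by
      intro i
      have e1 := (fixV G V (Y.map (MulAut.conj (k i)).toMonoidHom)).index_mul_card
      have e2 := (fixV G V Y).index_mul_card
      rw [fixV_conj, ← e2] at e1
      rw [Nat.eq_of_mul_eq_mul_right Nat.card_pos e1, hidx]
    simp only [h4, Finset.prod_const, Finset.card_univ, Fintype.card_fin] at h3
    rw [hd', ← pow_mul, mul_comm] at h3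
    exact (Nat.pow_le_pow_iff_right hq1).1 h3

/-- the order of `S` -/
theorem PSit.p_dvd (h : PSit p q G V) (hψ : IsCover ψ) : p ∣ Nat.card S := by
  have h1 : Nat.card G = Nat.card S * Nat.card ψ.ker := by
    have h3 := Subgroup.card_eq_card_quotient_mul_card_subgroup ψ.ker
    rwa [Nat.card_congr (QuotientGroup.quotientKerEquivOfSurjective ψ hψ.surj).toEquiv] at h3
  have h2 := h.pG
  rw [h1] at h2
  exact (h.hp.dvd_mul.1 h2).resolve_right (PSit.not_dvd_ker h hψ)

/-- Sylow subgroups of `S` in a list which generate it -/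
theorem PSit.list' (h : PSit p q G V) (hψ : IsCover ψ) (l : List (Sylow p S))
    (hl : ⨆ i : Fin l.length, ((l.get i : Sylow p S) : Subgroup S) = ⊤) :
    ∃ c d : ℕ, Nat.card V = q ^ d ∧ q ^ c ≤ Nat.card (Sylow p S) ∧ d ≤ l.length * c := by
  have hp : Fact p.Prime := ⟨h.hp⟩
  obtain ⟨P⟩ : Nonempty (Sylow p S) := inferInstance
  choose g hg using fun i : Fin l.length => MulAction.exists_smul_eq S P (l.get i)
  obtain ⟨c, d, h1, h2, h3⟩ := PSit.gen' h hψ (P : Subgroup S) P.2 g (by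
    rw [← hl]
    congr 1
    funext i
    rw [← hg i]
    rfl)
  refine ⟨c, d, h1, ?_, h3⟩
  rw [P.card_eq_index_normalizer]
  exact h2

/-- two Sylow `p`-subgroups generate -/
theorem PSit.two_gen' (h : PSit p q G V) (hψ : IsCover ψ)
    (hg : ∃ P Q : Sylow p S, (P : Subgroup S) ⊔ Q = ⊤) :
    ∃ c d : ℕ, Nat.card V = q ^ d ∧ q ^ c ≤ Nat.card (Sylow p S) ∧ d ≤ 2 * c := by
  obtain ⟨P, Q, hPQ⟩ := hg
  obtain ⟨c, d, h1, h2, h3⟩ := PSit.list' h hψ [P, Q] (by
    rw [eq_top_iff, ← hPQ]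
    exact sup_le (le_iSup (fun i : Fin [P, Q].length => (([P, Q].get i : Sylow p S) : Subgroup S)) ⟨0, by simp⟩)
      (le_iSup (fun i : Fin [P, Q].length => (([P, Q].get i : Sylow p S) : Subgroup S)) ⟨1, by simp⟩))
  exact ⟨c, d, h1, h2, h3⟩

/-- the chain above `H`, with a bound for the last index -/
theorem exists_list_above' (hp : p.Prime) (hS : ∀ H : Subgroup S, (∀ P : Sylow p S, (P : Subgroup S) ≤ H) → H = ⊤) {D : ℕ}
    (hD : ∀ H : Subgroup S, H ≠ ⊤ → D ≤ H.index) :
    ∀ (n : ℕ) (H : Subgroup S) (P₀ : Sylow p S), (P₀ : Subgroup S) ≤ H → Nat.card S ≤ Nat.card H + n →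
      ∃ l : List (Sylow p S), Cfsg.Agent.H306.QA.sups l H = ⊤ ∧
        (l = [] ∨ (p + 1) ^ (l.length - 1) * D * Nat.card H ≤ Nat.card S) := by
  intro n
  induction n with
  | zero =>
    intro H P₀ _ h
    exact ⟨[], Subgroup.eq_top_of_card_eq H (le_antisymm (Subgroup.card_le_card_group H) h), Or.inl rfl⟩
  | succ n ih =>
    intro H P₀ h₀ h
    by_cases hH : H = ⊤
    · exact ⟨[], hH, Or.inl rfl⟩
    · obtain ⟨P, hP⟩ : ∃ P : Sylow p S, ¬ (P : Subgroup S) ≤ H := by
        by_contra hc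
        push Not at hc
        exact hH (hS H hc)
      have h1 := Cfsg.Agent.H306.QA.le_card_sup hp h₀ hP
      have h2 : 0 < Nat.card H := Nat.card_pos
      have h3 : Nat.card H + 1 ≤ Nat.card ↥((P : Subgroup S) ⊔ H) := by
        have := hp.two_le
        nlinarith
      obtain ⟨l, hl, hle⟩ := ih ((P : Subgroup S) ⊔ H) P₀ (h₀.trans le_sup_right) (by omega)
      refine ⟨l ++ [P], ?_, Or.inr ?_⟩
      · rw [Cfsg.Agent.H306.QA.sups_append]
        exact hl
      · rw [List.length_append, List.length_singleton, Nat.add_sub_cancel]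
        rcases hle with rfl | hle
        · rw [List.length_nil, pow_zero, one_mul, ← H.index_mul_card]
          exact Nat.mul_le_mul_right _ (hD H hH)
        · obtain rfl | hl0 := l.eq_nil_or_concat'
          · rw [List.length_nil, pow_zero, one_mul, ← H.index_mul_card]
            exact Nat.mul_le_mul_right _ (hD H hH)
          · have h5 : l.length = l.length - 1 + 1 := by
              obtain ⟨a, b, rfl⟩ := hl0
              simp
            rw [h5, pow_succ]
            calc (p + 1) ^ (l.length - 1) * (p + 1) * D * Nat.card H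
                = (p + 1) ^ (l.length - 1) * D * ((p + 1) * Nat.card H) := by ring
              _ ≤ (p + 1) ^ (l.length - 1) * D * Nat.card ↥((P : Subgroup S) ⊔ H) := Nat.mul_le_mul_left _ h1
              _ ≤ _ := hle

theorem sups_le (l : List (Sylow p S)) {H K : Subgroup S} (hH : H ≤ K) (hl : ∀ P ∈ l, (P : Subgroup S) ≤ K) :
    Cfsg.Agent.H306.QA.sups l H ≤ K := by
  induction l with
  | nil => exact hH
  | cons P l ih =>
    exact sup_le (hl P List.mem_cons_self) (ih fun Q hQ => hl Q (List.mem_cons_of_mem _ hQ))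

/-- chain of subgroups generated by Sylow subgroups; `D` bounds the indices of the proper subgroups of `S` from below -/
theorem PSit.chain' (h : PSit p q G V) (hψ : IsCover ψ) {D : ℕ} (_hD0 : p + 1 ≤ D)
    (hD : ∀ H : Subgroup S, H ≠ ⊤ → D ≤ H.index) :
    ∃ m c d : ℕ, 1 ≤ m ∧ (m = 1 ∨ (p + 1) ^ (m - 2) * D ≤ ordCompl[p] (Nat.card S)) ∧ Nat.card V = q ^ d ∧
      q ^ c ≤ Nat.card (Sylow p S) ∧ d ≤ m * c := by
  have hp : Fact p.Prime := ⟨h.hp⟩
  obtain ⟨P₀⟩ : Nonempty (Sylow p S) := inferInstance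
  obtain ⟨l, hl, hle⟩ := exists_list_above' h.hp (Cfsg.Agent.H306.QA.eq_top_of_sylow h.hp (PSit.p_dvd h hψ)) hD
    (Nat.card S) P₀ P₀ le_rfl (by omega)
  obtain ⟨c, d, h1, h2, h3⟩ := PSit.list' h hψ (l ++ [P₀]) (by
    rw [eq_top_iff, ← hl]
    have hmem : ∀ P ∈ l ++ [P₀], (P : Subgroup S) ≤
        ⨆ i : Fin (l ++ [P₀]).length, (((l ++ [P₀]).get i : Sylow p S) : Subgroup S) := by
      intro P hP
      obtain ⟨i, hi⟩ := List.get_of_mem hP
      rw [← hi]
      exact le_iSup (fun i : Fin (l ++ [P₀]).length => (((l ++ [P₀]).get i : Sylow p S) : Subgroup S)) i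
    exact sups_le l (hmem P₀ (by simp)) fun P hP => hmem P (by simp [hP]))
  refine ⟨(l ++ [P₀]).length, c, d, by simp, ?_, h1, h2, h3⟩
  rcases hle with rfl | hle
  · exact Or.inl rfl
  · rcases l with _ | ⟨a, l⟩
    · exact Or.inl rfl
    · right
      have h5 : ((a :: l) ++ [P₀]).length - 2 = (a :: l).length - 1 := by simp
      have h6 : Nat.card P₀ = p ^ (Nat.card S).factorization p := P₀.card_eq_multiplicity
      rw [h5, Nat.le_div_iff_mul_le (Nat.pos_of_ne_zero (pow_ne_zero _ h.hp.ne_zero)), ← h6]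
      exact hle

end P

end Cfsg.Agent.H987.QA
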